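import Groth.Agent.GrLib8.HilbertFn
import Groth.Agent.GrLib8.StdField
import Mathlib.LinearAlgebra.Matrix.ToLinearEquiv

/-!
# Degrees in the Hilbert–Burch resolution of points
-/

set_option autoImplicit false
set_option linter.unusedSectionVars false

universe u

open DirectSum MvPolynomial

namespace Groth.Agent.HB95

variable {k : Type u} [Field k]

/-- A quadratic function bounded on a half-line of integers is constant. -/
theorem quad_bounded (A B C K g₀ : ℤ) (h : ∀ g, g₀ ≤ g → 0 ≤ A * g ^ 2 + B * g + C ∧ A * g ^ 2 + B * g + C ≤ K) :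
    A = 0 ∧ B = 0 := by
  have hA : A = 0 := by
    by_contra hA
    obtain ⟨g, hg, hg1, hg2⟩ : ∃ g, g₀ ≤ g ∧ 1 ≤ g ∧ |B| + |C| + |K| + 1 ≤ g := by
      have h0 := le_abs_self g₀
      have h1 := abs_nonneg B
      have h2 := abs_nonneg C
      have h3 := abs_nonneg K
      have h4 := abs_nonneg g₀
      exact ⟨|g₀| + |B| + |C| + |K| + 1, by omega, by omega, by omega⟩
    obtain ⟨h1, h2⟩ := h g hg
    have hA1 : 1 ≤ |A| := Int.one_le_abs hA
    have hb : |A * g ^ 2| ≤ |B| * g + |C| + |K| := by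
      rw [abs_le]
      have := abs_le.1 (show |B * g| ≤ |B| * g by rw [abs_mul, abs_of_nonneg (show (0:ℤ) ≤ g by omega)])
      have := abs_le.1 (le_refl |C|)
      have := le_abs_self K
      constructor <;> linarith [abs_nonneg C, abs_nonneg K]
    rw [abs_mul, abs_of_nonneg (sq_nonneg g)] at hb
    have h3 : g ^ 2 ≤ |A| * g ^ 2 := le_mul_of_one_le_left (sq_nonneg g) hA1
    nlinarith [abs_nonneg C, abs_nonneg K]
  refine ⟨hA, ?_⟩
  subst hA
  by_contra hB
  obtain ⟨g, hg, hg1, hg2⟩ : ∃ g, g₀ ≤ g ∧ 0 ≤ g ∧ |C| + |K| + 1 ≤ g := by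
    have h0 := le_abs_self g₀
    have h2 := abs_nonneg C
    have h3 := abs_nonneg K
    have h4 := abs_nonneg g₀
    exact ⟨|g₀| + |C| + |K| + 1, by omega, by omega, by omega⟩
  obtain ⟨h1, h2⟩ := h g hg
  have hb : |B * g| ≤ |C| + |K| := by
    rw [abs_le]
    have := abs_le.1 (le_refl |C|)
    have := le_abs_self K
    constructor <;> linarith [abs_nonneg C, abs_nonneg K]
  rw [abs_mul, abs_of_nonneg hg1] at hb
  have h3 : g ≤ |B| * g := le_mul_of_one_le_left hg1 (Int.one_le_abs hB)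
  omega

theorem two_choose_two (e g : ℤ) (h : e ≤ g) :
    2 * ((Nat.choose (2 + (g - e).toNat) 2 : ℕ) : ℤ) = (g - e + 2) * (g - e + 1) := by
  obtain ⟨n, hn⟩ := Int.eq_ofNat_of_zero_le (sub_nonneg.2 h)
  rw [hn, Int.toNat_natCast]
  have h2 : 2 * Nat.choose (2 + n) 2 = (n + 2) * (n + 1) := by
    rw [Nat.choose_two_right, Nat.mul_div_cancel' (Nat.even_mul_pred_self _).two_dvd]
    rw [show 2 + n - 1 = n + 1 by omega, add_comm 2 n]
  exact_mod_cast h2

variable {M : Type u} [AddCommGroup M] [Module k M] [Module (MvPolynomial (Fin 3) k) M]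
  [IsScalarTower k (MvPolynomial (Fin 3) k) M]
  {ℳ : ℤ → Submodule k M} [Decomposition ℳ] [SetLike.GradedSMul (GrSyz.stdGr k (Fin 3)) ℳ]

variable {Z : Finset (Fin 3 → k)} {I : Ideal (MvPolynomial (Fin 3) k)}
  (hI : ∀ f : MvPolynomial (Fin 3) k, f ∈ I ↔ ∀ p ∈ Z, ∀ j : ℕ, eval p (homogeneousComponent j f) = 0)
  {π : MvPolynomial (Fin 3) k →ₗ[MvPolynomial (Fin 3) k] M} (hπ : Function.Surjective π)
  (hπg : GrLC.IsGrHom (GrSyz.stdGr k (Fin 3)) ℳ π) (hker : LinearMap.ker π = I)

theorem eval_eq_zero_iff_mem (hI : ∀ f : MvPolynomial (Fin 3) k, f ∈ I ↔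
    ∀ p ∈ Z, ∀ j : ℕ, eval p (homogeneousComponent j f) = 0) (n : ℕ) (f : MvPolynomial (Fin 3) k)
    (hf : f.IsHomogeneous n) : f ∈ I ↔ ∀ p ∈ Z, eval p f = 0 := by
  classical
  rw [hI]
  have hc : ∀ j, homogeneousComponent j f = if j = n then f else 0 := fun j =>
    homogeneousComponent_of_mem hf
  constructor
  · intro h p hp
    have := h p hp n
    rwa [hc, if_pos rfl] at this
  · intro h p hp j
    rw [hc]
    split_ifs
    · exact h p hp
    · exact map_zero _

include hI hπ hπg hker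

theorem finrank_piece_le (g : ℤ) : Module.finrank k (ℳ g) ≤ Z.card := by
  classical
  let P := GrSyz.stdGr k (Fin 3) g
  haveI : Module.Finite k P := (GrLib8.stdGr_piece 2 g).1
  let A : P →ₗ[k] ℳ g := (π.restrictScalars k).restrict fun x hx => hπg g x hx
  have hA : Function.Surjective A := by
    rintro ⟨y, hy⟩
    have hd : GrLC.IsGrHomDeg (GrSyz.stdGr k (Fin 3)) ℳ π 0 := fun j m hm => by rw [add_zero]; exact hπg j m hm
    obtain ⟨x, hx, hxy⟩ := GrLib8.exists_preimage_mem π hd hy (hπ y)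
    rw [sub_zero] at hx
    exact ⟨⟨x, hx⟩, Subtype.ext hxy⟩
  let ev : P →ₗ[k] (Z → k) := LinearMap.pi fun p => (aeval (R := k) p.1).toLinearMap.comp P.subtype
  have hle : LinearMap.ker ev ≤ LinearMap.ker A := by
    rintro ⟨f, hf⟩ h
    refine LinearMap.mem_ker.2 (Subtype.ext ?_)
    show π f = 0
    rw [← LinearMap.mem_ker, hker]
    rcases lt_or_ge g 0 with hg | hg
    · rw [GrLib8.stdGr_nonneg k _ g hg f hf]; exact zero_mem _
    obtain ⟨n, rfl⟩ := Int.eq_ofNat_of_zero_le hg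
    have hfn : f.IsHomogeneous n := by
      have := (GrLib8.stdGr_natCast (k := k) 3 n).le (show f ∈ GrSyz.stdGr k (Fin 3) n from hf)
      exact (mem_homogeneousSubmodule _ _).1 this
    refine (eval_eq_zero_iff_mem hI n f hfn).2 fun p hp => ?_
    have h' := congrFun (LinearMap.mem_ker.1 h) ⟨p, hp⟩
    exact h'
  have h1 := A.finrank_range_add_finrank_ker
  have h2 := ev.finrank_range_add_finrank_ker
  have h3 := Submodule.finrank_mono hle
  have h4 := Submodule.finrank_le (LinearMap.range ev)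
  rw [Module.finrank_pi, Fintype.card_coe] at h4
  rw [LinearMap.range_eq_top.2 hA, finrank_top] at h1
  omega

end Groth.Agent.HB95
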