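import Groth.Agent.HB95.Basic

/-!
# The Hilbert–Burch degree inequalities
-/

set_option autoImplicit false
set_option linter.unusedSectionVars false

universe u

open DirectSum MvPolynomial

namespace Groth.Agent.HB95

variable {k : Type u} [Field k]
variable {M : Type u} [AddCommGroup M] [Module k M] [Module (MvPolynomial (Fin 3) k) M]
  [IsScalarTower k (MvPolynomial (Fin 3) k) M]
  {ℳ : ℤ → Submodule k M} [Decomposition ℳ] [SetLike.GradedSMul (GrSyz.stdGr k (Fin 3)) ℳ]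

variable {Z : Finset (Fin 3 → k)} {I : Ideal (MvPolynomial (Fin 3) k)}
  (hI : ∀ f : MvPolynomial (Fin 3) k, f ∈ I ↔ ∀ p ∈ Z, ∀ j : ℕ, eval p (homogeneousComponent j f) = 0)
  {π : MvPolynomial (Fin 3) k →ₗ[MvPolynomial (Fin 3) k] M} (hπ : Function.Surjective π)
  (hπg : GrLC.IsGrHom (GrSyz.stdGr k (Fin 3)) ℳ π) (hker : LinearMap.ker π = I)
  (F : GrSyz.FreeRes (GrSyz.stdGr k (Fin 3)) ℳ) (hlen : F.HasLengthLE 2)

include hI hπ hπg hker hlen

theorem rank_eq : (F.rk 0 : ℤ) - F.rk 1 + F.rk 2 = 0 ∧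
    (∑ b, F.deg 0 b : ℤ) - ∑ b, F.deg 1 b + ∑ b, F.deg 2 b = 0 := by
  classical
  let g₀ : ℤ := ∑ b, |F.deg 0 b| + ∑ b, |F.deg 1 b| + ∑ b, |F.deg 2 b|
  have hb : ∀ g, g₀ ≤ g → ∀ i < 3, ∀ b, F.deg i b ≤ g := by
    intro g hg i hi b
    have h := Finset.single_le_sum (f := fun b => |F.deg i b|) (fun j _ => abs_nonneg _) (Finset.mem_univ b)
    have := le_abs_self (F.deg i b)
    have h0 := Finset.sum_nonneg (s := Finset.univ) fun b _ => abs_nonneg (F.deg 0 b)
    have h1 := Finset.sum_nonneg (s := Finset.univ) fun b _ => abs_nonneg (F.deg 1 b)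
    have h2 := Finset.sum_nonneg (s := Finset.univ) fun b _ => abs_nonneg (F.deg 2 b)
    interval_cases i <;> simp only [g₀] at hg <;> omega
  have key : ∀ g, g₀ ≤ g → ∀ i < 3,
      2 * ∑ b : Fin (F.rk i), (if F.deg i b ≤ g then ((Nat.choose (2 + (g - F.deg i b).toNat) 2 : ℕ) : ℤ) else 0) =
        (F.rk i : ℤ) * g ^ 2 + (3 * F.rk i - 2 * ∑ b, F.deg i b) * g +
          ∑ b, ((2 - F.deg i b) * (1 - F.deg i b)) := by
    intro g hg i hi
    rw [Finset.mul_sum]
    rw [show (F.rk i : ℤ) = ∑ _b : Fin (F.rk i), (1 : ℤ) by simp, Finset.mul_sum, Finset.mul_sum,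
      ← Finset.sum_sub_distrib, Finset.sum_mul, Finset.sum_mul, ← Finset.sum_add_distrib, ← Finset.sum_add_distrib]
    refine Finset.sum_congr rfl fun b _ => ?_
    rw [if_pos (hb g hg i hi b), two_choose_two _ _ (hb g hg i hi b)]
    ring
  obtain ⟨hA, hB⟩ := quad_bounded ((F.rk 0 : ℤ) - F.rk 1 + F.rk 2)
    ((3 * F.rk 0 - 2 * ∑ b, F.deg 0 b) - (3 * F.rk 1 - 2 * ∑ b, F.deg 1 b) + (3 * F.rk 2 - 2 * ∑ b, F.deg 2 b))
    (∑ b, ((2 - F.deg 0 b) * (1 - F.deg 0 b)) - ∑ b, ((2 - F.deg 1 b) * (1 - F.deg 1 b)) +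
      ∑ b, ((2 - F.deg 2 b) * (1 - F.deg 2 b))) (2 * Z.card) g₀ (fun g hg => by
    have h := GrLib8.finrank_piece_eq F 2 hlen g
    rw [Finset.sum_range_succ, Finset.sum_range_succ, Finset.sum_range_one] at h
    have h0 := key g hg 0 (by omega)
    have h1 := key g hg 1 (by omega)
    have h2 := key g hg 2 (by omega)
    have hle : (Module.finrank k (ℳ g) : ℤ) ≤ Z.card := by exact_mod_cast finrank_piece_le hI hπ hπg hker g
    have hnn : (0 : ℤ) ≤ Module.finrank k (ℳ g) := Int.natCast_nonneg _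
    constructor <;> linarith)
  exact ⟨hA, by linarith⟩

omit hlen in
theorem deg_zero_eq (h0 : F.rk 0 = 1) (hZne : Z.Nonempty) (b : Fin (F.rk 0)) : F.deg 0 b = 0 := by
  classical
  let S := MvPolynomial (Fin 3) k
  have hone : π 1 ≠ 0 := by
    intro h
    rw [← LinearMap.mem_ker, hker] at h
    obtain ⟨p, hp⟩ := hZne
    have := (eval_eq_zero_iff_mem hI 0 1 (isHomogeneous_one _ _)).1 h p hp
    rw [map_one] at this
    exact one_ne_zero this
  have hd : GrLC.IsGrHomDeg (GrSyz.stdGr k (Fin 3)) ℳ π 0 := fun j m hm => by rw [add_zero]; exact hπg j m hm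
  haveI : Subsingleton (Fin (F.rk 0)) := by rw [h0]; infer_instance
  obtain ⟨x, hx, hxy⟩ := GrLib8.exists_preimage_mem π hd (F.aug_mem b) (hπ _)
  rw [sub_zero] at hx
  obtain ⟨v, hv⟩ := F.aug_surjective (π 1)
  rw [Fintype.linearCombination_apply, Fintype.sum_subsingleton _ b] at hv
  rcases lt_trichotomy (F.deg 0 b) 0 with h | h | h
  · rw [GrLib8.stdGr_nonneg k _ _ h x hx, map_zero] at hxy
    rw [← hxy, smul_zero] at hv
    exact absurd hv.symm hone
  · exact h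
  · have h1 : π 1 ∈ ℳ 0 := hπg 0 1 (SetLike.GradedOne.one_mem)
    have := congrArg (fun z => (decompose ℳ z 0 : M)) hv
    simp only at this
    rw [decompose_of_mem_same ℳ h1] at this
    refine absurd this.symm ?_
    rw [← DirectSum.sum_support_decompose (GrSyz.stdGr k (Fin 3)) (v b), Finset.sum_smul, decompose_sum]
    rw [DFinsupp.finset_sum_apply, Submodule.coe_sum]
    rw [Finset.sum_eq_zero]
    · exact fun e => hone e
    intro i _
    rcases lt_or_ge i 0 with hi | hi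
    · rw [GrLib8.stdGr_nonneg k _ i hi _ (SetLike.coe_mem _), zero_smul, decompose_zero]
      rfl
    · exact decompose_of_mem_ne ℳ (SetLike.GradedSMul.smul_mem (SetLike.coe_mem _) (F.aug_mem b))
        (show i +ᵥ F.deg 0 b ≠ 0 by rw [vadd_eq_add]; omega)

omit hI hπ hπg hker hlen in
theorem mul_row_eq_zero (h0 : F.rk 0 = 1) (b : Fin (F.rk 0)) (l : Fin (F.rk 2)) :
    ∑ a, F.d 0 b a * F.d 1 a l = 0 := by
  have h : Matrix.mulVecLin (F.d 1) (Pi.single l 1) ∈ LinearMap.ker (Matrix.mulVecLin (F.d 0)) :=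
    (F.exact_succ 0).ge ⟨_, rfl⟩
  have h' := congrFun (LinearMap.mem_ker.1 h) b
  rw [Matrix.mulVecLin_apply, Matrix.mulVecLin_apply, Matrix.mulVec_single_one] at h'
  exact h'

omit hI hπ hπg hker hlen in
theorem row_ne_zero (hF : F.IsMinimal (GrSyz.irrel (GrSyz.stdGr k (Fin 3))).toIdeal) (h0 : F.rk 0 = 1)
    (b : Fin (F.rk 0)) (a : Fin (F.rk 1)) : F.d 0 b a ≠ 0 := by
  intro h
  haveI : Subsingleton (Fin (F.rk 0)) := by rw [h0]; infer_instance
  have hk : (Pi.single a 1 : Fin (F.rk 1) → MvPolynomial (Fin 3) k) ∈ LinearMap.ker (Matrix.mulVecLin (F.d 0)) := by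
    refine LinearMap.mem_ker.2 (funext fun b' => ?_)
    rw [Matrix.mulVecLin_apply, Matrix.mulVec_single_one, Subsingleton.elim b' b]
    exact h
  obtain ⟨w, hw⟩ := (F.exact_succ 0).le hk
  have h1 : (1 : MvPolynomial (Fin 3) k) ∈ (GrSyz.irrel (GrSyz.stdGr k (Fin 3))).toIdeal := by
    have := congrFun hw a
    rw [Pi.single_eq_same, Matrix.mulVecLin_apply] at this
    rw [← this]
    show ∑ l, F.d 1 a l * w l ∈ _
    exact Ideal.sum_mem _ fun l _ => Ideal.mul_mem_right _ _ (hF 1 a l)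
  have hle : (GrSyz.irrel (GrSyz.stdGr k (Fin 3))).toIdeal ≤ RingHom.ker (constantCoeff (σ := Fin 3) (R := k)) := by
    refine Ideal.span_le.2 fun f hf => ?_
    obtain ⟨n, hn, hf⟩ := hf
    rw [SetLike.mem_coe, RingHom.mem_ker, constantCoeff_eq]
    by_contra hne
    have := (GrSyz.mem_stdGr_iff k _ n f).1 hf hne
    rw [map_zero] at this
    omega
  exact one_ne_zero ((map_one _).symm.trans (RingHom.mem_ker.1 (hle h1)))

omit hI hπ hπg hker hlen in
theorem entry_eq_zero (hF : F.IsMinimal (GrSyz.irrel (GrSyz.stdGr k (Fin 3))).toIdeal) (i : ℕ)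
    (a : Fin (F.rk i)) (b : Fin (F.rk (i + 1))) (h : F.deg (i + 1) b ≤ F.deg i a) : F.d i a b = 0 := by
  rcases lt_or_eq_of_le h with h | h
  · exact GrLib8.stdGr_nonneg k _ _ (by omega) _ (F.d_mem i a b)
  · have hm := F.d_mem i a b
    rw [h, sub_self] at hm
    by_contra hne
    obtain ⟨hu⟩ : Nonempty (IsUnit (F.d i a b)) := ⟨GrLib8.isUnit_of_stdGr_zero k _ _ hm hne⟩
    have htop := Ideal.eq_top_of_isUnit_mem _ (hF i a b) hu
    have hle : (GrSyz.irrel (GrSyz.stdGr k (Fin 3))).toIdeal ≤ RingHom.ker (constantCoeff (σ := Fin 3) (R := k)) := by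
      refine Ideal.span_le.2 fun f hf => ?_
      obtain ⟨n, hn, hf⟩ := hf
      rw [SetLike.mem_coe, RingHom.mem_ker, constantCoeff_eq]
      by_contra hne
      have := (GrSyz.mem_stdGr_iff k _ n f).1 hf hne
      rw [map_zero] at this
      omega
    rw [htop, top_le_iff] at hle
    exact RingHom.ker_ne_top _ hle

omit hI hπ hπg hker in
theorem block (hF : F.IsMinimal (GrSyz.irrel (GrSyz.stdGr k (Fin 3))).toIdeal) (h0 : F.rk 0 = 1)
    (t : ℕ) (h1 : F.rk 1 = t + 1) (h2 : F.rk 2 = t) (i : Fin t)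
    (hle : F.deg 2 (Fin.cast h2.symm i) ≤ F.deg 1 (Fin.cast h1.symm i.castSucc))
    (ha : ∀ i j : Fin (t + 1), i ≤ j → F.deg 1 (Fin.cast h1.symm j) ≤ F.deg 1 (Fin.cast h1.symm i))
    (hb : ∀ i j : Fin t, i ≤ j → F.deg 2 (Fin.cast h2.symm j) ≤ F.deg 2 (Fin.cast h2.symm i)) : False := by
  classical
  let T := {l : Fin t // i ≤ l}
  let b0 : Fin (F.rk 0) := ⟨0, by omega⟩
  let N : Fin (t + 1) → Fin t → MvPolynomial (Fin 3) k := fun a l => F.d 1 (Fin.cast h1.symm a) (Fin.cast h2.symm l)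
  let g : Fin (t + 1) → MvPolynomial (Fin 3) k := fun a => F.d 0 b0 (Fin.cast h1.symm a)
  have hz : ∀ a : Fin (t + 1), ∀ l : Fin t, a ≤ i.castSucc → i ≤ l → N a l = 0 := fun a l h h' =>
    entry_eq_zero F hF 1 _ _ ((hb i l h').trans (hle.trans (ha a i.castSucc h)))
  let D : Matrix T T (MvPolynomial (Fin 3) k) := Matrix.of fun a l => N a.1.succ l.1
  have hsplit : ∀ f : Fin (t + 1) → MvPolynomial (Fin 3) k, (∀ a, a ≤ i.castSucc → f a = 0) →
      ∑ a, f a = ∑ a : T, f a.1.succ := by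
    intro f hf
    rw [← Finset.sum_filter_of_ne (s := Finset.univ) (p := fun a => i.castSucc < a)
      (fun a _ hne => lt_of_not_ge fun h => hne (hf a h))]
    refine (Finset.sum_bij (fun (a : T) _ => a.1.succ) ?_ ?_ ?_ (fun _ _ => rfl)).symm
    · intro a _
      exact Finset.mem_filter.2 ⟨Finset.mem_univ _, Fin.castSucc_lt_succ_iff.2 a.2⟩
    · intro a _ c _ h
      exact Subtype.ext (Fin.succ_injective _ h)
    · intro a ha'
      obtain ⟨l, rfl⟩ := Fin.exists_succ_eq.2 (Fin.ne_zero_of_lt (Finset.mem_filter.1 ha').2)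
      exact ⟨⟨l, Fin.castSucc_lt_succ_iff.1 (Finset.mem_filter.1 ha').2⟩, Finset.mem_univ _, rfl⟩
  have hg : Matrix.vecMul (fun a : T => g a.1.succ) D = 0 := by
    funext l
    have h := mul_row_eq_zero F h0 b0 (Fin.cast h2.symm l.1)
    rw [← Equiv.sum_comp (finCongr h1.symm)] at h
    show ∑ a : T, g a.1.succ * N a.1.succ l.1 = 0
    rw [← hsplit (fun a => g a * N a l.1) fun a h' => by rw [hz a l.1 h' l.2, mul_zero]]
    exact h
  have hgne : (fun a : T => g a.1.succ) ≠ 0 := fun h =>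
    row_ne_zero F hF h0 b0 _ (congrFun h ⟨i, le_rfl⟩)
  have hdet : D.det = 0 := Matrix.exists_vecMul_eq_zero_iff.1 ⟨_, hgne, hg⟩
  obtain ⟨w, hw, hDw⟩ := Matrix.exists_mulVec_eq_zero_iff.2 hdet
  let W : Fin t → MvPolynomial (Fin 3) k := fun l => if h : i ≤ l then w ⟨l, h⟩ else 0
  have hk : ∀ a : Fin (t + 1), ∑ l, N a l * W l = 0 := by
    intro a
    rw [← Finset.sum_filter_of_ne (s := Finset.univ) (p := fun l => i ≤ l)
      (fun l _ hne => by
        by_contra h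
        exact hne (by simp only [W, dif_neg h, mul_zero])),
      Finset.sum_subtype (p := fun l => i ≤ l) _ (by simp)]
    by_cases hai : a ≤ i.castSucc
    · exact Finset.sum_eq_zero fun l _ => by rw [hz a l.1 hai l.2, zero_mul]
    obtain ⟨a', rfl⟩ := Fin.exists_succ_eq.2 (Fin.ne_zero_of_lt (lt_of_not_ge hai))
    have := congrFun hDw ⟨a', Fin.castSucc_lt_succ_iff.1 (lt_of_not_ge hai)⟩
    rw [Pi.zero_apply] at this
    rw [← this]
    refine Finset.sum_congr rfl fun l _ => ?_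
    simp only [W, dif_pos l.2]
    rfl
  have hker' : (fun l => W (Fin.cast h2 l)) ∈ LinearMap.ker (Matrix.mulVecLin (F.d 1)) := by
    refine LinearMap.mem_ker.2 (funext fun a => ?_)
    rw [Matrix.mulVecLin_apply]
    show ∑ l, F.d 1 a l * W (Fin.cast h2 l) = 0
    rw [← Equiv.sum_comp (finCongr h2.symm)]
    exact hk (Fin.cast h1 a)
  obtain ⟨z, hz'⟩ := (F.exact_succ 1).le hker'
  haveI : IsEmpty (Fin (F.rk 3)) := (hlen 3 (by omega)) ▸ Fin.isEmpty'
  rw [Subsingleton.elim z 0, map_zero] at hz'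
  refine hw (funext fun l => ?_)
  have := congrFun hz' (Fin.cast h2.symm l.1)
  simp only [W, Pi.zero_apply, Fin.cast_cast, Fin.cast_eq_self, dif_pos l.2] at this
  exact this.symm

end Groth.Agent.HB95
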